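import Mathlib

set_option autoImplicit false
universe u

open scoped TensorProduct

namespace Groth.Agent.FibTens8

theorem fibre_tensor (R B' B C S : Type u) [CommRing R] [CommRing B'] [CommRing B] [CommRing C]
    [CommRing S] [Algebra R B'] [Algebra R B] [Algebra R C] [Algebra R S]
    (f : B' →ₐ[R] B) (hf : Function.Surjective f) (g : C →ₐ[R] B)
    (hJ : Function.Injective (LinearMap.lTensor S (LinearMap.ker f.toLinearMap).subtype)) :
    letI P := AlgHom.equalizer (f.comp (AlgHom.fst R B' C)) (g.comp (AlgHom.snd R B' C))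
    letI φ₁ := Algebra.TensorProduct.map (AlgHom.id R S) ((AlgHom.fst R B' C).comp P.val)
    letI φ₂ := Algebra.TensorProduct.map (AlgHom.id R S) ((AlgHom.snd R B' C).comp P.val)
    Function.Injective (fun z : S ⊗[R] ↥P => (φ₁ z, φ₂ z)) ∧
    ∀ (x : S ⊗[R] B') (y : S ⊗[R] C),
      Algebra.TensorProduct.map (AlgHom.id R S) f x = Algebra.TensorProduct.map (AlgHom.id R S) g y →
        ∃ z : S ⊗[R] ↥P, φ₁ z = x ∧ φ₂ z = y := by
  classical
  set P := AlgHom.equalizer (f.comp (AlgHom.fst R B' C)) (g.comp (AlgHom.snd R B' C)) with hP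
  let J := LinearMap.ker f.toLinearMap
  let p₁ : P →ₐ[R] B' := (AlgHom.fst R B' C).comp P.val
  let p₂ : P →ₐ[R] C := (AlgHom.snd R B' C).comp P.val
  have hmem : ∀ z : B' × C, z ∈ P ↔ f z.1 = g z.2 := fun z => AlgHom.mem_equalizer _ _ _
  let ι : J →ₗ[R] P :=
    { toFun := fun j => ⟨((j : B'), 0), (hmem _).mpr (by rw [map_zero]; exact j.2)⟩
      map_add' := fun a b => Subtype.ext (by simp)
      map_smul' := fun r a => Subtype.ext (by simp) }
  have hp2 : Function.Surjective p₂ := fun c => by
    obtain ⟨b, hb⟩ := hf (g c)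
    exact ⟨⟨(b, c), (hmem _).mpr hb⟩, rfl⟩
  have hex : Function.Exact ι p₂.toLinearMap := by
    intro z
    constructor
    · intro hz
      refine ⟨⟨(z : B' × C).1, ?_⟩, Subtype.ext (Prod.ext rfl ?_)⟩
      · show f (z : B' × C).1 = 0
        rw [(hmem _).mp z.2]
        have : (z : B' × C).2 = 0 := hz
        rw [this, map_zero]
      · exact (hz : (z : B' × C).2 = 0).symm
    · rintro ⟨j, rfl⟩; rfl
  have e1 : ∀ z, Algebra.TensorProduct.map (AlgHom.id R S) p₁ z = p₁.toLinearMap.lTensor S z := fun z => by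
    induction z using TensorProduct.induction_on with
    | zero => simp
    | tmul s a => simp
    | add a b ha hb => simp only [map_add, ha, hb]
  have e2 : ∀ z, Algebra.TensorProduct.map (AlgHom.id R S) p₂ z = p₂.toLinearMap.lTensor S z := fun z => by
    induction z using TensorProduct.induction_on with
    | zero => simp
    | tmul s a => simp
    | add a b ha hb => simp only [map_add, ha, hb]
  have ecomp : ∀ j, p₁.toLinearMap.lTensor S (ι.lTensor S j) = J.subtype.lTensor S j := fun j => by
    rw [← LinearMap.comp_apply, ← LinearMap.lTensor_comp]; rfl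
  have hexT := lTensor_exact S hex hp2
  refine ⟨?_, fun x y hxy => ?_⟩
  · intro z z' h
    simp only [Prod.mk.injEq] at h
    obtain ⟨h1, h2⟩ := h
    rw [e1, e1] at h1
    rw [e2, e2] at h2
    obtain ⟨j, hj⟩ := (hexT (z - z')).mp (by rw [map_sub, h2, sub_self])
    have : j = 0 := hJ (by rw [map_zero]; show J.subtype.lTensor S j = 0; rw [← ecomp, hj, map_sub, h1, sub_self])
    rw [this, map_zero] at hj
    exact sub_eq_zero.mp hj.symm
  · obtain ⟨z₀, hz₀⟩ := LinearMap.lTensor_surjective S (g := p₂.toLinearMap) hp2 y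
    have hexf : Function.Exact J.subtype f.toLinearMap := LinearMap.exact_subtype_ker_map _
    have ef : ∀ {D E : Type u} [CommRing D] [Algebra R D] [CommRing E] [Algebra R E] (h : D →ₐ[R] E) (w : S ⊗[R] D),
        Algebra.TensorProduct.map (AlgHom.id R S) h w = h.toLinearMap.lTensor S w := by
      intro D E _ _ _ _ h w
      induction w using TensorProduct.induction_on with
      | zero => simp
      | tmul s a => simp
      | add a b ha hb => simp only [map_add, ha, hb]
    rw [ef, ef] at hxy
    have hkey : f.toLinearMap.lTensor S (x - p₁.toLinearMap.lTensor S z₀) = 0 := by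
      rw [map_sub, hxy, ← hz₀, ← LinearMap.comp_apply, ← LinearMap.lTensor_comp, ← LinearMap.comp_apply,
        ← LinearMap.lTensor_comp, sub_eq_zero]
      congr 2
      exact LinearMap.ext fun w => ((hmem _).mp w.2).symm
    obtain ⟨j, hj⟩ := (lTensor_exact S hexf hf _).mp hkey
    refine ⟨z₀ + ι.lTensor S j, ?_, ?_⟩
    · show Algebra.TensorProduct.map (AlgHom.id R S) p₁ _ = x
      rw [e1, map_add, ecomp, hj, add_sub_cancel]
    · show Algebra.TensorProduct.map (AlgHom.id R S) p₂ _ = y
      rw [e2, map_add, hz₀, (hexT _).mpr ⟨j, rfl⟩, add_zero]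

end Groth.Agent.FibTens8
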